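import Groth.Prelude.Def_Found
import Mathlib.RingTheory.Ideal.KrullsHeightTheorem
import Mathlib.RingTheory.KrullDimension.NonZeroDivisors
import Mathlib.RingTheory.Spectrum.Prime.RingHom

/-!
Dimensions of quotients by primes in catenary Noetherian local rings.
-/

set_option autoImplicit false

universe u

namespace Groth.Agent.Hironaka

open Order IsLocalRing

variable {R : Type u} [CommRing R]

theorem coheight_eq_ringKrullDim_quotient (p : PrimeSpectrum R) :
    (Order.coheight p : WithBot ℕ∞) = ringKrullDim (R ⧸ p.asIdeal) := by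
  rw [ringKrullDim_quotient, Order.coheight_eq_krullDim_Ici]
  refine Order.krullDim_eq_of_orderIso (OrderIso.setCongr _ _ ?_)
  ext q
  rfl

theorem coheight_ne_top [IsNoetherianRing R] [IsLocalRing R] (p : PrimeSpectrum R) :
    Order.coheight p ≠ ⊤ := by
  intro h
  have h1 : (Order.coheight p : WithBot ℕ∞) ≤ ringKrullDim R := Order.coheight_le_krullDim p
  rw [h] at h1
  exact (ringKrullDim_lt_top (R := R)).not_ge h1

theorem series_last_and_saturated [IsNoetherianRing R] [IsLocalRing R]
    {s : LTSeries (PrimeSpectrum R)} (hs : (s.length : ℕ∞) = Order.coheight s.head) :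
    s.last = IsLocalRing.closedPoint R ∧ ∀ i : Fin s.length, s i.castSucc ⋖ s i.succ := by
  constructor
  · by_contra hne
    have hlt : s.last < IsLocalRing.closedPoint R :=
      lt_of_le_of_ne (IsLocalRing.le_maximalIdeal s.last.isPrime.ne_top) hne
    have h1 := Order.length_le_coheight_head (p := s.snoc _ hlt)
    rw [RelSeries.head_snoc, ← hs, RelSeries.snoc_length] at h1
    norm_cast at h1
    omega
  · intro i
    refine ⟨s.strictMono (Fin.castSucc_lt_succ), fun r h1 h2 => ?_⟩
    have h3 := Order.length_le_coheight (x := s.head) (p := s.insertNth i r h1 h2) (by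
      show s.head ≤ Fin.insertNth (α := fun _ => PrimeSpectrum R) (Fin.castSucc i.succ) r s.toFun 0
      rw [Fin.insertNth_apply_below (by simp [Fin.lt_def])]
      simp [RelSeries.head])
    rw [← hs, RelSeries.insertNth_length] at h3
    norm_cast at h3
    omega

theorem cons_saturated {α : Type*} [Preorder α] (s : LTSeries α) (p : α) (hlt : p < s.head)
    (h : p ⋖ s.head) (hs : ∀ i : Fin s.length, s i.castSucc ⋖ s i.succ)
    (i : Fin (s.cons p hlt).length) : (s.cons p hlt) i.castSucc ⋖ (s.cons p hlt) i.succ := by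
  have hl : (s.cons p hlt).length = s.length + 1 := RelSeries.cons_length s p hlt
  obtain ⟨k, hk⟩ := i
  have h0 : ∀ j : Fin ((s.cons p hlt).length + 1), j.val = 0 → (s.cons p hlt) j = p := fun j hj => by
    rw [show j = 0 from Fin.ext hj]
    exact RelSeries.head_cons s p hlt
  have h1 : ∀ (j : Fin ((s.cons p hlt).length + 1)) (l : Fin (s.length + 1)), j.val = l.val + 1 →
      (s.cons p hlt) j = s l := fun j l hj => by
    rw [show j = .cast (by rw [hl]) l.succ from Fin.ext (by simp [hj])]
    exact RelSeries.cons_cast_succ s p hlt l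
  rcases Nat.eq_zero_or_pos k with rfl | hk0
  · rw [h0 _ rfl, h1 _ 0 rfl]
    exact h
  · have hk1 : k - 1 < s.length := by omega
    rw [h1 _ (Fin.castSucc ⟨k - 1, hk1⟩) (by simp; omega), h1 _ (Fin.succ ⟨k - 1, hk1⟩) (by simp; omega)]
    exact hs ⟨k - 1, hk1⟩

/-- In a catenary Noetherian local ring dimension drops by one along a covering of primes. -/
theorem coheight_of_covBy [IsNoetherianRing R] [IsLocalRing R] (hcat : CAlg.IsCatenary R)
    {p q : PrimeSpectrum R} (hpq : p ⋖ q) : Order.coheight p = Order.coheight q + 1 := by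
  obtain ⟨n, hn⟩ := ENat.ne_top_iff_exists.mp (coheight_ne_top q)
  obtain ⟨m, hm⟩ := ENat.ne_top_iff_exists.mp (coheight_ne_top p)
  obtain ⟨s, hs0, hsl⟩ := Order.exists_series_of_le_coheight q (hn.le)
  obtain ⟨t, ht0, htl⟩ := Order.exists_series_of_le_coheight p (hm.le)
  obtain ⟨hslast, hssat⟩ := series_last_and_saturated (s := s) (by rw [hs0, hsl, hn])
  obtain ⟨htlast, htsat⟩ := series_last_and_saturated (s := t) (by rw [ht0, htl, hm])
  have hlt : p < s.head := hs0 ▸ hpq.lt
  have := hcat.2 (s.cons p hlt) t (by rw [RelSeries.head_cons, ht0])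
    (by rw [RelSeries.last_cons, hslast, htlast]) (fun i => by
      exact cons_saturated s p hlt (hs0 ▸ hpq) hssat i) htsat
  rw [RelSeries.cons_length, hsl, htl] at this
  rw [← hn, ← hm, ← this, Nat.cast_add, Nat.cast_one]

/-- A prime minimal over `q + (t)` with `t ∉ q` covers `q`. -/
theorem covBy_of_mem_minimalPrimes_sup [IsNoetherianRing R] {q P : PrimeSpectrum R} {t : R}
    (ht : t ∉ q.asIdeal) (hP : P.asIdeal ∈ (q.asIdeal ⊔ Ideal.span {t}).minimalPrimes) : q ⋖ P := by
  have hle : q.asIdeal ≤ P.asIdeal := le_sup_left.trans hP.le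
  have htP : t ∈ P.asIdeal := hP.le (Ideal.mem_sup_right (Ideal.mem_span_singleton_self t))
  refine ⟨lt_of_le_of_ne hle fun h => ht (h ▸ htP), fun r h1 h2 => ?_⟩
  let f := Ideal.Quotient.mk q.asIdeal
  have hsurj : Function.Surjective f := Ideal.Quotient.mk_surjective
  have hr : (r.asIdeal.map f).IsPrime :=
    Ideal.map_isPrime_of_surjective hsurj (Ideal.mk_ker.trans_le h1.le)
  have hP' : (P.asIdeal.map f).IsPrime :=
    Ideal.map_isPrime_of_surjective hsurj (Ideal.mk_ker.trans_le hle)
  have hmono : ∀ {a b : PrimeSpectrum R}, q.asIdeal ≤ a.asIdeal → a < b →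
      a.asIdeal.map f < b.asIdeal.map f := fun {a b} ha hab => by
    refine lt_of_le_of_ne (Ideal.map_mono hab.le) fun h => hab.ne (PrimeSpectrum.ext ?_)
    have h' := congrArg (Ideal.comap f) h
    rw [Ideal.comap_map_of_surjective f hsurj, Ideal.comap_map_of_surjective f hsurj,
      ← RingHom.ker_eq_comap_bot, Ideal.mk_ker, sup_eq_left.mpr ha,
      sup_eq_left.mpr (ha.trans hab.le)] at h'
    exact h'
  have e1 : (⊥ : Ideal (R ⧸ q.asIdeal)) < r.asIdeal.map f := by
    have := hmono le_rfl h1
    rwa [Ideal.map_quotient_self] at this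
  have e2 := hmono h1.le h2
  have hh1 : (P.asIdeal.map f).height ≤ 1 := Ideal.map_height_le_one_of_mem_minimalPrimes hP
  have : (r.asIdeal.map f).FiniteHeight :=
    ⟨Or.inr ((Ideal.height_mono e2.le).trans_lt (hh1.trans_lt (WithTop.coe_lt_top 1))).ne⟩
  have hlt := (Ideal.height_strict_mono_of_isPrime_of_isPrime e2).trans_le hh1
  rw [Order.lt_one_iff, Ideal.height_eq_zero_iff] at hlt
  exact e1.not_ge (hlt.2 ⟨Ideal.isPrime_bot, le_rfl⟩ bot_le)

end Groth.Agent.Hironaka
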